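/-
Data for the octet and the involutions of PΩ(7, 3) as a reflection group.
-/
import Cfsg.Agent.Lib.CosetEnum.Fi22Class.O73Data

set_option autoImplicit false

namespace CfsgThreeTrans.O7Odd

/-- The roots of an octet, by node. -/
def octRoots : List ℕ := [0, 334, 1080, 729, 2052, 525, 3, 1890, 145]

/-- The pairs of roots giving the witnesses. -/
def witPairs : List (ℕ × ℕ) := [(684, 2026), (354, 1444), (1272, 763), (1560, 1299), (220, 2065)]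

/-- The witness for a mask of signs. -/
def witOf : List ℕ := [0, 0, 0, 2, 0, 4, 1, 2, 0, 2, 1, 2, 1, 2, 1, 2, 0, 0, 1, 2, 0, 1, 0, 2, 0, 2, 0, 2, 0, 2, 0, 2, 0, 2, 2, 2, 0, 2, 2, 2, 2, 2, 2, 1, 2, 2, 2, 0, 4, 2, 2, 2, 0, 2, 2, 2, 2, 2, 2, 3, 2, 2, 2, 0, 0, 2, 2, 2, 3, 2, 2, 2, 2, 2, 2, 0, 2, 2, 2, 4, 0, 2, 2, 2, 1, 2, 2, 2, 2, 2, 2, 0, 2, 2, 2, 0, 2, 0, 2, 0, 2, 0, 2, 0, 2, 0, 1, 0, 2, 1, 0, 0, 2, 1, 2, 1, 2, 1, 2, 0, 2, 1, 4, 0, 2, 0, 0, 0]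

end CfsgThreeTrans.O7Odd
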