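/-
Checks for the octet and the involutions of PΩ(7, 3).
-/
import Cfsg.Agent.Lib.ThreeTrans.O7Odd.Data
import Cfsg.Agent.Lib.CosetEnum.Fi22Octet.Check

set_option autoImplicit false
set_option maxRecDepth 100000

namespace CfsgThreeTrans.O7Odd

open CfsgLib.CosetEnum CfsgLib.CosetEnum.Fi22Class

/-- The diagonal sign change of a mask. -/
noncomputable def sgn (m x : ℕ) : ℕ :=
  force x fun x => enc3 fun i => Nat.mod (Bool.rec (dig3 x i) (2 * dig3 x i) (Nat.beq (fld m i 1) 1)) 3

/-- The commutator of the sign change with the witness. -/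
noncomputable def pApp (m a b x : ℕ) : ℕ :=
  force (refl3 b (refl3 a x)) fun y => force (sgn m y) fun y => force (refl3 a (refl3 b y)) fun y => sgn m y

/-- A power is not scalar. -/
noncomputable def okPow (m a b k : ℕ) : Bool :=
  ((List.range 7).any fun i => force (3 ^ i) fun e => !(Nat.beq (Nat.rec e (fun _ y => pApp m a b y) k) e)) &&
    ((List.range 7).any fun i => force (3 ^ i) fun e => !(Nat.beq (Nat.rec e (fun _ y => pApp m a b y) k) (neg3 e)))

/-- The witness of a mask. -/
noncomputable def witA (m : ℕ) : ℕ := (witPairs.getD (witOf.getD m 0) (0, 0)).1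

/-- The witness of a mask. -/
noncomputable def witB (m : ℕ) : ℕ := (witPairs.getD (witOf.getD m 0) (0, 0)).2

/-- The check of a mask. -/
noncomputable def okMask (m : ℕ) : Bool :=
  Nat.beq m 0 || Nat.beq m 127 ||
    ((List.range 7).any fun i => Nat.beq m (2 ^ i) || Nat.beq (m + 2 ^ i) 127) ||
    (okPow m (witA m) (witB m) 2 && okPow m (witA m) (witB m) 3 && Nat.beq (dot3 (witA m) (witA m)) 1 &&
      Nat.beq (dot3 (witB m) (witB m)) 1)

theorem masks_ok : allN 128 okMask = true := by decide +kernel

/-- The root of a node. -/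
noncomputable def rootAt (x : ℕ) : ℕ := octRoots.getD x 0

/-- The roots have the pattern of the octet. -/
noncomputable def okRoots : Bool :=
  allN 8 fun i => allN 8 fun j => force (rootAt (Nat.succ i)) fun v => force (rootAt (Nat.succ j)) fun w =>
    Nat.beq (dot3 v v) 1 && Nat.blt v 2187 && (Nat.beq i j ||
      (beqB (Nat.beq (dot3 v w) 0) (!(Fi22Octet.adjB (Nat.succ i) (Nat.succ j))) && !(Nat.beq v w) &&
        !(Nat.beq v (neg3 w))))

theorem roots_ok : okRoots = true := by decide +kernel

end CfsgThreeTrans.O7Odd
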