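/-
In PΩ(7, 3) as a projective reflection group, an involution centralised by a Sylow 2-subgroup whose conjugates
are 3-transpositions is the image of a reflection; so its conjugates contain an octet.
-/
import Cfsg.Agent.Lib.ThreeTrans.O7Odd.Check
import Cfsg.Agent.Lib.CosetEnum.Fi22Class.O73
import Cfsg.Agent.Lib.CosetEnum.Fi22Octet.Main
import Mathlib.GroupTheory.Sylow

set_option autoImplicit false
set_option maxRecDepth 100000
set_option linter.unusedSectionVars false

namespace CfsgThreeTrans.O7Odd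

open Matrix hiding vec mul_inv_rev vec_neg
open QuadraticMap CfsgReflClass CfsgLib.CosetEnum CfsgLib.CosetEnum.Fi22Class
open CfsgLib.CosetEnum.Fi22Class.O73 (K3 V Q7 Q7_apply polar_Q7 Q7_nondeg Q7_det vec vec_dot vec_neg vec_refl dig3_enc dig3_lt)

/-- The isometries. -/
noncomputable abbrev O7 : Type := ↥(Cfsg.isometryGroup K3 (⇑Q7))

/-- The reflection group. -/
noncomputable abbrev R7 : Subgroup O7 := Cfsg.reflectionSubgroup (⇑Q7) 1

/-- The projective reflection group. -/
noncomputable abbrev X7 : Type := ↥R7 ⧸ Subgroup.center ↥R7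

/-- The action. -/
noncomputable def ap (g : ↥R7) (v : V) : V := g.1.1.1 *ᵥ v

theorem ap_mul (g h : ↥R7) (v : V) : ap (g * h) v = ap g (ap h v) := iso_mul Q7 g.1 h.1 v

theorem ap_one (v : V) : ap 1 v = v := iso_one Q7 v

theorem ap_add (g : ↥R7) (v w : V) : ap g (v + w) = ap g v + ap g w := Matrix.mulVec_add _ _ _

theorem ap_smul (g : ↥R7) (c : K3) (v : V) : ap g (c • v) = c • ap g v := Matrix.mulVec_smul _ _ _

theorem ap_neg (g : ↥R7) (v : V) : ap g (-v) = -ap g v := Matrix.mulVec_neg _ _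

theorem ap_inj (g : ↥R7) {v w : V} (h : ap g v = ap g w) : v = w := by
  have := congrArg (ap g⁻¹) h
  rwa [← ap_mul, ← ap_mul, inv_mul_cancel, ap_one, ap_one] at this

theorem ap_ext {g h : ↥R7} (e : ∀ v, ap g v = ap h v) : g = h := Subtype.ext (iso_ext Q7 e)

theorem exists_refl {v : V} (hv : Q7 v = 1) : ∃ r : ↥R7, IsRefl Q7 r.1 v := by
  obtain ⟨r, hr⟩ := IsRefl.exists (show Q7 v ≠ 0 by rw [hv]; exact one_ne_zero)
  exact ⟨⟨r, Subgroup.subset_closure ⟨v, hv, (isRefl_iff hr.1).mp hr⟩⟩, hr⟩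

/-- The dot product. -/
noncomputable def dt (v w : V) : K3 := ∑ i, v i * w i

theorem refl_ap {r : ↥R7} {v : V} (hr : IsRefl Q7 r.1 v) (hv : Q7 v = 1) (x : V) : ap r x = x + dt x v • v := by
  show r.1.1.1 *ᵥ x = _
  rw [hr.2, hv, inv_one, one_mul, polar_Q7]
  have : (∑ i, v i * x i) = dt x v := Finset.sum_congr rfl fun i _ => mul_comm _ _
  rw [this]
  congr 2
  have h3 : (3 : K3) = 0 := rfl
  linear_combination (-(dt x v)) * h3

/-- The basis vector. -/
noncomputable def bv (i : Fin 7) : V := Pi.single i 1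

theorem bv_norm (i : Fin 7) : Q7 (bv i) = 1 := by
  rw [Q7_apply]
  revert i; decide +kernel

/-- The reflection in a basis vector. -/
noncomputable def rb (i : Fin 7) : ↥R7 := (exists_refl (bv_norm i)).choose

theorem rb_ap (i : Fin 7) (x : V) : ap (rb i) x = x + x i • bv i := by
  show ap (exists_refl (bv_norm i)).choose x = _
  rw [refl_ap (exists_refl (bv_norm i)).choose_spec (bv_norm i)]
  congr 2
  simp [dt, bv, Pi.single_apply]

theorem rb_bv (i j : Fin 7) : ap (rb i) (bv j) = if i = j then -bv j else bv j := by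
  rw [rb_ap]
  split
  · subst i
    funext k
    by_cases hk : k = j <;> simp [bv, hk]
    decide
  · simp [bv, Pi.single_apply, *]

theorem vec_expand (x : V) : x = ∑ i, x i • bv i := by
  funext k; simp [bv, Pi.single_apply]

theorem ap_sum (g : ↥R7) (x : V) : ap g x = ∑ i, x i • ap g (bv i) := by
  conv_lhs => rw [vec_expand x]
  show g.1.1.1 *ᵥ _ = _
  rw [Matrix.mulVec_sum]
  exact Finset.sum_congr rfl fun i _ => Matrix.mulVec_smul _ _ _

/-- A diagonal element. -/
def IsDiag (g : ↥R7) (s : Fin 7 → K3) : Prop := ∀ x i, ap g x i = s i * x i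

theorem isDiag_of_bv {g : ↥R7} {s : Fin 7 → K3} (h : ∀ i, ap g (bv i) = s i • bv i) : IsDiag g s := by
  intro x i
  rw [ap_sum, Finset.sum_apply, Finset.sum_eq_single i]
  · rw [Pi.smul_apply, h]
    simp [bv, mul_comm]
  · intro j _ hj
    rw [Pi.smul_apply, h]
    simp [bv, Ne.symm hj]
  · simp

theorem isRefl_neg {r : O7} {v : V} (h : IsRefl Q7 r (-v)) : IsRefl Q7 r v := by
  refine ⟨by have := h.1; rwa [QuadraticMap.map_neg] at this, fun x => ?_⟩
  rw [h.2, QuadraticMap.map_neg, polar_neg_left]; simp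

theorem refl_center_sign {r r' : O7} {v w : V} (hr : IsRefl Q7 r v) (hr' : IsRefl Q7 r' w) (hv : Q7 v = 1)
    (hw : Q7 w = 1) (e : r = r') : v = w ∨ v = -w := by
  have h1 := hr.2 v
  rw [e, hr'.2, hw, hv, polar_self_two, hv, inv_one, one_mul, one_mul, mul_one] at h1
  have h2 : (-polar (⇑Q7) w v) • w = (-(2 : K3)) • v := add_left_cancel h1
  have e2 : (-(2 : K3)) = 1 := rfl
  rw [e2, one_smul] at h2
  have h3 := congrArg Q7 h2
  rw [QuadraticMap.map_smul, hw, hv, smul_eq_mul, mul_one] at h3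
  rcases (by decide : ∀ c : K3, c * c = 1 → c = 1 ∨ c = -1) _ h3 with hc | hc
  · left; rw [← h2, hc, one_smul]
  · right; rw [← h2, hc, neg_one_smul]

/-- Central elements act as signs. -/
theorem center_sign {z : ↥R7} (hz : z ∈ Subgroup.center ↥R7) : ∃ t : K3, (t = 1 ∨ t = -1) ∧ ∀ x, ap z x = t • x := by
  have hsign : ∀ v : V, Q7 v = 1 → ap z v = v ∨ ap z v = -v := by
    intro v hv
    obtain ⟨r, hr⟩ := exists_refl hv
    have e : z.1 * r.1 * z.1⁻¹ = r.1 :=
      mul_inv_eq_iff_eq_mul.mpr (congrArg Subtype.val (Subgroup.mem_center_iff.mp hz r)).symm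
    exact refl_center_sign hr.conj hr ((iso_map Q7 z.1 v).trans hv) hv e
  have hs : ∀ i, ∃ s : K3, (s = 1 ∨ s = -1) ∧ ap z (bv i) = s • bv i := fun i => by
    rcases hsign _ (bv_norm i) with e | e
    · exact ⟨1, Or.inl rfl, by rw [e, one_smul]⟩
    · exact ⟨-1, Or.inr rfl, by rw [e, neg_one_smul]⟩
  choose s hs1 hs2 using hs
  have hd := isDiag_of_bv hs2
  have key : ∀ w : V, Q7 w = 1 → ∀ i j, w i = 1 → w j = 1 → s i = s j := by
    intro w hw i j hi hj
    rcases hsign w hw with e | e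
    · have a := congrFun e i; have b := congrFun e j
      rw [hd, hi, mul_one] at a; rw [hd, hj, mul_one] at b; rw [a, b]
    · have a := congrFun e i; have b := congrFun e j
      rw [hd, hi, mul_one, Pi.neg_apply, hi] at a; rw [hd, hj, mul_one, Pi.neg_apply, hj] at b; rw [a, b]
  set wA : V := ![1, 1, 1, 1, 0, 0, 0]
  set wB : V := ![0, 0, 0, 1, 1, 1, 1]
  have hA : Q7 wA = 1 := by rw [Q7_apply]; decide +kernel
  have hB : Q7 wB = 1 := by rw [Q7_apply]; decide +kernel
  refine ⟨s 3, hs1 3, fun x => funext fun i => ?_⟩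
  rw [hd, Pi.smul_apply, smul_eq_mul]
  congr 1
  fin_cases i
  · exact key wA hA _ _ rfl rfl
  · exact key wA hA _ _ rfl rfl
  · exact key wA hA _ _ rfl rfl
  · rfl
  · exact key wB hB _ _ rfl rfl
  · exact key wB hB _ _ rfl rfl
  · exact key wB hB _ _ rfl rfl

theorem mk_eq_sign {g h : ↥R7} (e : (g : X7) = (h : X7)) : ∃ t : K3, (t = 1 ∨ t = -1) ∧ ∀ x, ap g x = t • ap h x := by
  obtain ⟨t, ht, hz⟩ := center_sign (QuotientGroup.eq.mp e.symm)
  refine ⟨t, ht, fun x => ?_⟩
  have := congrArg (ap h) (hz x)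
  rwa [← ap_mul, mul_inv_cancel_left, ap_smul] at this

theorem mk_eq_of_sign {g h : ↥R7} {t : K3} (e : ∀ x, ap g x = t • ap h x) : (g : X7) = (h : X7) := by
  refine (QuotientGroup.eq.mpr (Subgroup.mem_center_iff.mpr fun k => ap_ext fun x => ?_)).symm
  have hw : ∀ y, ap (h⁻¹ * g) y = t • y := fun y => by
    rw [ap_mul, e, ap_smul, ← ap_mul, inv_mul_cancel, ap_one]
  rw [ap_mul k, ap_mul (h⁻¹ * g) k, hw, hw, ap_smul]

theorem mk_mul (g h : ↥R7) : ((g * h : ↥R7) : X7) = (g : X7) * h := rfl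

/-- A two-group of diagonal elements. -/
noncomputable def diagSub : Subgroup ↥R7 where
  carrier := {g | ∃ s, IsDiag g s}
  one_mem' := ⟨1, fun x i => by rw [ap_one, Pi.one_apply, one_mul]⟩
  mul_mem' := by
    rintro g h ⟨s, hs⟩ ⟨t, ht⟩
    exact ⟨s * t, fun x i => by rw [ap_mul, hs, ht, Pi.mul_apply, mul_assoc]⟩
  inv_mem' := by
    rintro g ⟨s, hs⟩
    refine ⟨s, fun x i => ?_⟩
    have h1 : ∀ y, ap g⁻¹ (ap g y) = y := fun y => by rw [← ap_mul, inv_mul_cancel, ap_one]
    have hss : s i * s i = 1 := by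
      have hne : s i ≠ 0 := fun e => by
        have := ap_inj g (v := bv i) (w := 0) (funext fun k => by
          rw [hs, hs, Pi.zero_apply, mul_zero]
          by_cases hk : k = i
          · subst hk; rw [e, zero_mul]
          · simp [bv, hk])
        simpa [bv] using congrFun this i
      exact (by decide : ∀ c : K3, c ≠ 0 → c * c = 1) _ hne
    have h2 := congrFun (show ap g (ap g⁻¹ x) = x by rw [← ap_mul, mul_inv_cancel, ap_one]) i
    rw [hs] at h2
    conv_rhs => rw [← h2, ← mul_assoc, hss, one_mul]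

theorem diagSub_sq {g : ↥R7} (hg : g ∈ diagSub) : g * g = 1 := by
  obtain ⟨s, hs⟩ := hg
  refine ap_ext fun x => funext fun i => ?_
  rw [ap_mul, hs, hs, ap_one, ← mul_assoc]
  have hne : s i ≠ 0 := fun e => by
    have := ap_inj g (v := bv i) (w := 0) (funext fun k => by
      rw [hs, hs, Pi.zero_apply, mul_zero]
      by_cases hk : k = i
      · subst hk; rw [e, zero_mul]
      · simp [bv, hk])
    simpa [bv] using congrFun this i
  rw [(by decide : ∀ c : K3, c ≠ 0 → c * c = 1) _ hne, one_mul]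

theorem rb_mem (i : Fin 7) : rb i ∈ diagSub :=
  ⟨fun j => if i = j then -1 else 1, isDiag_of_bv fun j => by rw [rb_bv]; split <;> simp⟩

theorem rb_fix (i : Fin 7) {w : V} (h : ap (rb i) w = w) : w i = 0 := by
  rw [rb_ap] at h
  have := congrFun h i
  simpa [bv] using this

theorem rb_move (i : Fin 7) {w : V} (h : ap (rb i) w = -w) : ∀ k ≠ i, w k = 0 := by
  intro k hk
  rw [rb_ap] at h
  have := congrFun h k
  simp [bv, hk] at this
  exact (by decide : ∀ c : K3, c = -c → c = 0) _ this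

/-- An element commuting modulo the centre with every basis reflection is diagonal. -/
theorem diag_of_commute {g : ↥R7} (h : ∀ i, ((g * rb i : ↥R7) : X7) = ((rb i * g : ↥R7) : X7)) : g ∈ diagSub := by
  have hex : ∀ i, ∀ x, ap g (ap (rb i) x) = ap (rb i) (ap g x) := by
    intro i x
    obtain ⟨t, ht, he⟩ := mk_eq_sign (h i)
    rcases ht with rfl | rfl
    · rw [← ap_mul, he, one_smul, ap_mul]
    · exfalso
      have he' : ∀ j, j ≠ i → ∀ k, k ≠ i → ap g (bv j) k = 0 := by
        intro j hj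
        refine rb_move i ?_
        have := he (bv j)
        rw [ap_mul, rb_bv, if_neg (Ne.symm hj), neg_one_smul, ap_mul] at this
        rw [← neg_neg (ap (rb i) (ap g (bv j))), ← this]
      obtain ⟨j, k, hj, hk, hjk⟩ := (show ∀ i : Fin 7, ∃ j k, j ≠ i ∧ k ≠ i ∧ j ≠ k by decide) i
      set a := ap g (bv j) i
      set b := ap g (bv k) i
      have hab : ap g (b • bv j) = ap g (a • bv k) := funext fun l => by
        rw [ap_smul, ap_smul, Pi.smul_apply, Pi.smul_apply, smul_eq_mul, smul_eq_mul]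
        by_cases hl : l = i
        · rw [hl]; exact mul_comm _ _
        · rw [he' j hj l hl, he' k hk l hl, mul_zero, mul_zero]
      have e2 := ap_inj g hab
      have hb : b = 0 := by simpa [bv, hjk] using congrFun e2 j
      have hzero : ap g (bv k) = ap g 0 := funext fun l => by
        rw [show ap g 0 = 0 from Matrix.mulVec_zero _, Pi.zero_apply]
        by_cases hl : l = i
        · rw [hl]; exact hb
        · exact he' k hk l hl
      simpa [bv] using congrFun (ap_inj g hzero) k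
  have hdiag : ∀ j, ∀ k, k ≠ j → ap g (bv j) k = 0 := fun j k hk => rb_fix k (by
    rw [← hex, rb_bv, if_neg hk])
  exact ⟨fun i => ap g (bv i) i, isDiag_of_bv fun i => funext fun k => by
    by_cases hk : k = i
    · subst hk; simp [bv]
    · rw [hdiag i k hk]; simp [bv, hk]⟩

theorem bitfun : ∀ s : Fin 7 → Bool, ∃ m < 128, ∀ i : Fin 7, Nat.beq (fld m i 1) 1 = s i := by decide +kernel

theorem vec_three (i : ℕ) (hi : i < 7) : vec (3 ^ i) = bv ⟨i, hi⟩ := by
  have h : ∀ i < 7, ∀ k : Fin 7, dig3 (3 ^ i) k = if (k : ℕ) = i then 1 else 0 := by decide +kernel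
  funext k
  show (dig3 (3 ^ i) k : K3) = _
  rw [h i hi k]
  by_cases e : (k : ℕ) = i
  · subst e; simp [bv]
  · have : k ≠ ⟨i, hi⟩ := fun q => e (congrArg Fin.val q)
    simp [bv, e, this]

/-- The digits determine the code. -/
theorem enc_dig {u : ℕ} (hu : u < 2187) : enc3 (fun i => dig3 u i) = u := by
  have d : ∀ i, dig3 u i = u / 3 ^ i % 3 := fun _ => rfl
  simp only [enc3, d]
  norm_num
  omega

theorem vec_inj {u v : ℕ} (hu : u < 2187) (hv : v < 2187) (q : vec u = vec v) : u = v := by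
  have hd : ∀ i : Fin 7, dig3 u i = dig3 v i := fun i => by
    have h := congrArg ZMod.val (congrFun q i)
    show dig3 u i = dig3 v i
    rw [show vec u i = (dig3 u i : K3) from rfl, show vec v i = (dig3 v i : K3) from rfl, ZMod.val_natCast,
      ZMod.val_natCast, Nat.mod_eq_of_lt (dig3_lt _ _), Nat.mod_eq_of_lt (dig3_lt _ _)] at h
    exact h
  rw [← enc_dig hu, ← enc_dig hv]
  simp only [enc3]
  rw [show dig3 u 0 = dig3 v 0 from hd 0, show dig3 u 1 = dig3 v 1 from hd 1, show dig3 u 2 = dig3 v 2 from hd 2,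
    show dig3 u 3 = dig3 v 3 from hd 3, show dig3 u 4 = dig3 v 4 from hd 4, show dig3 u 5 = dig3 v 5 from hd 5,
    show dig3 u 6 = dig3 v 6 from hd 6]

theorem enc_lt {f : ℕ → ℕ} (h : ∀ i, f i < 3) : enc3 f < 2187 := by
  have := h 0; have := h 1; have := h 2; have := h 3; have := h 4; have := h 5; have := h 6
  unfold enc3
  omega

theorem sgn_lt (m x : ℕ) : sgn m x < 2187 := by
  rw [sgn, force_eq]
  exact enc_lt fun _ => Nat.mod_lt _ (by norm_num)

theorem neg_lt (x : ℕ) : neg3 x < 2187 := by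
  rw [neg3, force_eq]
  exact enc_lt fun _ => Nat.mod_lt _ (by norm_num)

theorem vec_sgn {g : ↥R7} {s : Fin 7 → K3} (hg : IsDiag g s) {m : ℕ}
    (hm : ∀ i : Fin 7, s i = if Nat.beq (fld m i 1) 1 = true then -1 else 1) (x : ℕ) :
    ap g (vec x) = vec (sgn m x) := by
  funext i
  rw [hg, hm]
  show _ = (dig3 (sgn m x) i : K3)
  rw [sgn, force_eq, dig3_enc (fun i => Nat.mod (Bool.rec (dig3 x i) (2 * dig3 x i) (Nat.beq (fld m i 1) 1)) 3)
    fun _ => Nat.mod_lt _ (by norm_num)]
  show _ = ((Bool.rec (dig3 x i) (2 * dig3 x i) (Nat.beq (fld m i 1) 1) % 3 : ℕ) : K3)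
  rw [ZMod.natCast_mod]
  cases Nat.beq (fld m i 1) 1
  · simp [vec]
  · have h3 : (3 : K3) = 0 := rfl
    simp only [if_true, Nat.cast_mul, Nat.cast_ofNat]
    show -1 * (dig3 x i : K3) = 2 * (dig3 x i : K3)
    linear_combination (-(dig3 x i : K3)) * h3

theorem vec_refl_ap {r : ↥R7} {a : ℕ} (hr : IsRefl Q7 r.1 (vec a)) (ha : Q7 (vec a) = 1) (x : ℕ) :
    ap r (vec x) = vec (refl3 a x) := by
  rw [refl_ap hr ha, vec_refl, dt, vec_dot]

theorem refl_conj_eq {r : ↥R7} {v : V} (hr : IsRefl Q7 r.1 v) (g : ↥R7) :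
    IsRefl Q7 (g * r * g⁻¹).1 (ap g v) := hr.conj (g := g.1)

/-- Sign changes of weight between two and five are not 3-transpositions. -/
theorem diag_cases {g : ↥R7} (hg : g ∈ diagSub) (h1 : (g : X7) ≠ 1)
    (h3 : ∀ w : ↥R7, ((g : X7) * ((w : X7) * g * (w : X7)⁻¹)) ^ 2 = 1 ∨ ((g : X7) * ((w : X7) * g * (w : X7)⁻¹)) ^ 3 = 1) :
    ∃ i, (g : X7) = rb i := by
  classical
  obtain ⟨s, hs⟩ := hg
  have hsv : ∀ i, s i = 1 ∨ s i = -1 := fun i => by
    have hne : s i ≠ 0 := fun e => by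
      have := ap_inj g (v := bv i) (w := 0) (funext fun k => by
        rw [hs, hs, Pi.zero_apply, mul_zero]
        by_cases hk : k = i
        · subst hk; rw [e, zero_mul]
        · simp [bv, hk])
      simpa [bv] using congrFun this i
    exact (by decide : ∀ c : K3, c ≠ 0 → c = 1 ∨ c = -1) _ hne
  obtain ⟨m, hm, hbits⟩ := bitfun fun i => decide (s i = -1)
  have hsm : ∀ i : Fin 7, s i = if Nat.beq (fld m i 1) 1 = true then -1 else 1 := fun i => by
    rw [hbits]
    rcases hsv i with e | e <;> rw [e] <;> decide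
  have h := allN_spec masks_ok m hm
  simp only [okMask, Bool.or_eq_true, Bool.and_eq_true, List.any_eq_true, List.mem_range] at h
  rcases h with ((h | h) | ⟨i, hi, h⟩) | h
  · refine absurd ((mk_eq_of_sign (g := g) (h := 1) (t := 1) fun x => funext fun k => ?_).trans rfl) h1
    rw [hs, hsm, Nat.eq_of_beq_eq_true h, ap_one, one_smul]
    rw [if_neg (by revert k; decide +kernel), one_mul]
  · refine absurd ((mk_eq_of_sign (g := g) (h := 1) (t := -1) fun x => funext fun k => ?_).trans rfl) h1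
    rw [hs, hsm, Nat.eq_of_beq_eq_true h, ap_one, Pi.smul_apply, smul_eq_mul]
    rw [if_pos (by revert k; decide +kernel)]
  · refine ⟨⟨i, hi⟩, ?_⟩
    rcases h with h | h
    · refine mk_eq_of_sign (t := 1) fun x => funext fun k => ?_
      rw [hs, hsm, Nat.eq_of_beq_eq_true h, one_smul, rb_ap]
      simp only [(show ∀ i < 7, ∀ k : Fin 7, Nat.beq (fld (2 ^ i) k 1) 1 = decide ((k : ℕ) = i) by decide +kernel) i hi k,
        decide_eq_true_eq, Pi.add_apply, Pi.smul_apply, smul_eq_mul]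
      by_cases e : (k : ℕ) = i
      · rw [if_pos e, show k = ⟨i, hi⟩ from Fin.ext e]
        simp [bv]
        have h3' : (3 : K3) = 0 := rfl
        linear_combination (-(x ⟨i, hi⟩)) * h3'
      · have : k ≠ ⟨i, hi⟩ := fun q => e (congrArg Fin.val q)
        simp [bv, e, this]
    · refine mk_eq_of_sign (t := -1) fun x => funext fun k => ?_
      have hmi : m = 127 - 2 ^ i := by have := Nat.eq_of_beq_eq_true h; omega
      rw [hs, hsm, hmi, rb_ap]
      simp only [(show ∀ i < 7, ∀ k : Fin 7, Nat.beq (fld (127 - 2 ^ i) k 1) 1 = decide ((k : ℕ) ≠ i) by decide +kernel) i hi k,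
        decide_eq_true_eq, Pi.add_apply, Pi.smul_apply, smul_eq_mul]
      by_cases e : (k : ℕ) = i
      · rw [if_neg (not_not_intro e), show k = ⟨i, hi⟩ from Fin.ext e]
        simp [bv]
        have h3' : (3 : K3) = 0 := rfl
        linear_combination (x ⟨i, hi⟩) * h3'
      · have : k ≠ ⟨i, hi⟩ := fun q => e (congrArg Fin.val q)
        simp [bv, e, this]
  · exfalso
    obtain ⟨⟨⟨hk2, hk3⟩, hda⟩, hdb⟩ := h
    set a := witA m
    set b := witB m
    have ha : Q7 (vec a) = 1 := by rw [Q7_apply, vec_dot, Nat.eq_of_beq_eq_true hda, Nat.cast_one]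
    have hb : Q7 (vec b) = 1 := by rw [Q7_apply, vec_dot, Nat.eq_of_beq_eq_true hdb, Nat.cast_one]
    obtain ⟨ra, hra⟩ := exists_refl ha
    obtain ⟨rb', hrb⟩ := exists_refl hb
    set p := g * (ra * rb' * g * (ra * rb')⁻¹) with hp
    have hpv : ∀ x, ap p (vec x) = vec (pApp m a b x) := by
      intro x
      rw [hp, mul_inv_rev, inv_eq_of_mul_eq_one_right (Subtype.ext hra.sq : ra * ra = 1),
        inv_eq_of_mul_eq_one_right (Subtype.ext hrb.sq : rb' * rb' = 1)]
      simp only [ap_mul, vec_refl_ap hra ha, vec_refl_ap hrb hb, vec_sgn hs hsm, pApp, force_eq]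
    have hpow : ∀ k x, ap (p ^ k) (vec x) = vec (Nat.rec x (fun _ y => pApp m a b y) k) := by
      intro k
      induction k with
      | zero => intro x; rw [pow_zero, ap_one]; rfl
      | succ k ih => intro x; rw [pow_succ', ap_mul, ih, hpv]
    have key : ∀ k, okPow m a b k = true → ((p : ↥R7) : X7) ^ k ≠ 1 := by
      intro k hk e
      simp only [okPow, Bool.and_eq_true, List.any_eq_true, List.mem_range, force_eq, Bool.not_eq_true'] at hk
      obtain ⟨⟨i, hi, hne⟩, ⟨j, hj, hne'⟩⟩ := hk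
      obtain ⟨t, ht, he⟩ := mk_eq_sign (g := p ^ k) (h := 1) (by rw [QuotientGroup.mk_pow]; exact e)
      have h0 : ∀ i < 7, 3 ^ i < 2187 := by decide
      have hlt : ∀ i < 7, ∀ k, Nat.rec (3 ^ i) (fun _ y => pApp m a b y) k < 2187 := by
        intro i hi k
        cases k with
        | zero => exact h0 i hi
        | succ k =>
          show pApp m a b _ < 2187
          rw [pApp, force_eq, force_eq, force_eq]
          exact sgn_lt _ _
      rcases ht with rfl | rfl
      · refine Nat.ne_of_beq_eq_false hne (vec_inj (hlt i hi k) (h0 i hi) ?_)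
        rw [← hpow, he, one_smul, ap_one]
      · refine Nat.ne_of_beq_eq_false hne' (vec_inj (hlt j hj k) (neg_lt _) ?_)
        rw [← hpow, he, ap_one, neg_one_smul, vec_neg]
    rcases h3 (ra * rb') with e | e
    · exact key 2 hk2 e
    · exact key 3 hk3 e

/-- **The conjugates of a Sylow-central 3-transposition contain an octet.** -/
theorem octet (u : X7) (h2 : u * u = 1) (h1 : u ≠ 1) (P : Sylow 2 X7) (hP : ∀ p ∈ P, Commute p u)
    (h3 : ∀ w : X7, (u * (w * u * w⁻¹)) ^ 2 = 1 ∨ (u * (w * u * w⁻¹)) ^ 3 = 1) :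
    ∃ y : ℕ → X7, (∀ x, 1 ≤ x → x < 9 → IsConj u (y x)) ∧
      (∀ x, 1 ≤ x → x < 9 → ∀ x', 1 ≤ x' → x' < 9 → y x = y x' → x = x') ∧
      (∀ x, 1 ≤ x → x < 9 → ∀ x', 1 ≤ x' → x' < 9 → (Commute (y x) (y x') ↔ Fi22Octet.adjB x x' = false)) := by
  classical
  haveI : Fact (Nat.Prime 2) := ⟨Nat.prime_two⟩
  set E := diagSub.map (QuotientGroup.mk' (Subgroup.center ↥R7))
  have hE : IsPGroup 2 E := by
    rintro ⟨_, g, hg, rfl⟩
    refine ⟨1, Subtype.ext ?_⟩
    show (QuotientGroup.mk' (Subgroup.center ↥R7) g) ^ 2 ^ 1 = 1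
    rw [← map_pow, pow_one, pow_two, diagSub_sq hg, map_one]
  obtain ⟨P', hP'⟩ := hE.exists_le_sylow
  obtain ⟨c, hc⟩ := MulAction.exists_smul_eq X7 P P'
  obtain ⟨g, hg⟩ := QuotientGroup.mk_surjective (c * u * c⁻¹)
  have hgE : ∀ i, ((g * rb i : ↥R7) : X7) = ((rb i * g : ↥R7) : X7) := by
    intro i
    have hmem : ((rb i : ↥R7) : X7) ∈ P' := hP' ⟨rb i, rb_mem i, rfl⟩
    rw [← hc] at hmem
    change ((rb i : ↥R7) : X7) ∈ (↑(c • P) : Subgroup X7) at hmem
    rw [Sylow.coe_subgroup_smul, Subgroup.mem_pointwise_smul_iff_inv_smul_mem] at hmem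
    have := hP _ hmem
    simp only [MulAut.smul_def, ← map_inv, MulAut.conj_apply, inv_inv] at this
    rw [mk_mul, mk_mul, hg]
    have q : c⁻¹ * (rb i : X7) * c * u = u * (c⁻¹ * (rb i : X7) * c) := this.eq
    calc c * u * c⁻¹ * (rb i : X7) = c * (u * (c⁻¹ * (rb i : X7) * c)) * c⁻¹ := by group
      _ = c * (c⁻¹ * (rb i : X7) * c * u) * c⁻¹ := by rw [q]
      _ = _ := by group
  have h1' : (g : X7) ≠ 1 := by
    rw [hg]; exact fun e => h1 (conj_eq_one_iff.mp e)
  obtain ⟨i, hi⟩ := diag_cases (diag_of_commute hgE) h1' fun w => by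
    have e : (g : X7) * ((w : X7) * g * (w : X7)⁻¹) =
        c * (u * ((c⁻¹ * w * c) * u * (c⁻¹ * w * c)⁻¹)) * c⁻¹ := by rw [hg]; group
    rw [e, conj_pow, conj_pow, conj_eq_one_iff, conj_eq_one_iff]
    exact h3 _
  have hu : IsConj u ((rb i : ↥R7) : X7) := isConj_iff.mpr ⟨c, hg.symm.trans hi⟩
  have hrefl : ∀ (r : ↥R7) (v : V), Q7 v = 1 → IsRefl Q7 r.1 v → IsConj u (r : X7) := by
    intro r v hv hr
    refine hu.trans ?_
    obtain ⟨-, ⟨d, hd, hcls⟩, -⟩ := three_class_three Q7_nondeg (show 5 ≤ 7 by norm_num) (c := (1 : K3)) one_ne_zero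
    have m1 : rb i ∈ conjugatesOf d := hcls ▸ (show (rb i).1 ∈ Cfsg.reflectionsOfNorm (⇑Q7) 1 from
      ⟨bv i, bv_norm i, (isRefl_iff (by rw [bv_norm]; exact one_ne_zero)).mp (exists_refl (bv_norm i)).choose_spec⟩)
    have m2 : r ∈ conjugatesOf d := hcls ▸ (show r.1 ∈ Cfsg.reflectionsOfNorm (⇑Q7) 1 from
      ⟨v, hv, (isRefl_iff hr.1).mp hr⟩)
    exact MonoidHom.map_isConj (QuotientGroup.mk' (Subgroup.center ↥R7)) ((IsConj.symm m1).trans m2)
  have hn : ∀ x, 1 ≤ x → x < 9 → Q7 (vec (rootAt x)) = 1 := fun x a b => by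
    obtain ⟨x, rfl⟩ : ∃ m, x = m + 1 := ⟨x - 1, by omega⟩
    have h := allN_spec (allN_spec roots_ok x (by omega)) x (by omega)
    simp only [force_eq, Bool.and_eq_true] at h
    rw [Q7_apply, vec_dot, Nat.eq_of_beq_eq_true h.1.1, Nat.cast_one]
  let y : ℕ → X7 := fun x => if h : 1 ≤ x ∧ x < 9 then (((exists_refl (hn x h.1 h.2)).choose : ↥R7) : X7) else 1
  have hy : ∀ x, 1 ≤ x → x < 9 → ∃ r : ↥R7, y x = (r : X7) ∧ IsRefl Q7 r.1 (vec (rootAt x)) := fun x a b =>
    ⟨_, dif_pos ⟨a, b⟩, (exists_refl (hn x a b)).choose_spec⟩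
  have pairs : ∀ x, 1 ≤ x → x < 9 → ∀ x', 1 ≤ x' → x' < 9 → x ≠ x' →
      ((dt (vec (rootAt x)) (vec (rootAt x')) = 0 ↔ Fi22Octet.adjB x x' = false) ∧
        vec (rootAt x) ≠ vec (rootAt x') ∧ vec (rootAt x) ≠ -vec (rootAt x')) := by
    intro x a b x' a' b' hne
    obtain ⟨x, rfl⟩ : ∃ m, x = m + 1 := ⟨x - 1, by omega⟩
    obtain ⟨x', rfl⟩ : ∃ m, x' = m + 1 := ⟨x' - 1, by omega⟩
    have h := allN_spec (allN_spec roots_ok x (by omega)) x' (by omega)
    have h' := allN_spec (allN_spec roots_ok x' (by omega)) x (by omega)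
    simp only [force_eq, Bool.and_eq_true, Bool.or_eq_true, blt_iff, Bool.not_eq_true', beqB_iff] at h h'
    obtain ⟨⟨-, hl⟩, hp⟩ := h
    obtain ⟨⟨-, hl'⟩, -⟩ := h'
    obtain ⟨⟨q1, q2⟩, q3⟩ := hp.resolve_left (fun q => hne (by rw [Nat.eq_of_beq_eq_true q]))
    refine ⟨?_, fun q => Nat.ne_of_beq_eq_false q2 (vec_inj hl hl' q), fun q => ?_⟩
    · rw [dt, vec_dot]
      have hlt : dot3 (rootAt (x + 1)) (rootAt (x' + 1)) < 3 := Nat.mod_lt _ (by norm_num)
      have hz : ((dot3 (rootAt (x + 1)) (rootAt (x' + 1)) : ℕ) : K3) = 0 ↔ dot3 (rootAt (x + 1)) (rootAt (x' + 1)) = 0 :=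
        ⟨fun q => by
          have := congrArg ZMod.val q
          rwa [ZMod.val_natCast, Nat.mod_eq_of_lt hlt, ZMod.val_zero] at this, fun q => by rw [q, Nat.cast_zero]⟩
      rw [hz]
      revert q1
      cases Fi22Octet.adjB (x + 1) (x' + 1) <;> simp [Nat.succ_eq_add_one] <;> intro q1 <;>
        first | exact Nat.eq_of_beq_eq_true q1 | exact Nat.ne_of_beq_eq_false q1
    · rw [← vec_neg] at q
      exact Nat.ne_of_beq_eq_false q3 (vec_inj hl (neg_lt _) q)
  have hz : ∀ x, 1 ≤ x → x < 9 → ∀ x', 1 ≤ x' → x' < 9 →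
      ∃ z : V, z ≠ 0 ∧ dt z (vec (rootAt x)) = 0 ∧ dt z (vec (rootAt x')) = 0 := by
    intro x a b x' a' b'
    have h : ∀ i < 8, ∀ j < 8, ((List.range 300).any fun z => !(Nat.beq z 0) &&
        Nat.beq (dot3 z (rootAt (i + 1))) 0 && Nat.beq (dot3 z (rootAt (j + 1))) 0) = true := by decide +kernel
    have hh := h (x - 1) (by omega) (x' - 1) (by omega)
    rw [show x - 1 + 1 = x by omega, show x' - 1 + 1 = x' by omega] at hh
    simp only [List.any_eq_true, List.mem_range, Bool.and_eq_true, Bool.not_eq_true'] at hh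
    obtain ⟨z, hzl, ⟨hz0, hz1⟩, hz2⟩ := hh
    refine ⟨vec z, fun q => Nat.ne_of_beq_eq_false hz0 (vec_inj (by omega) (by norm_num) ?_), ?_, ?_⟩
    · rw [q]; funext i
      exact (by decide +kernel : ∀ i : Fin 7, (0 : V) i = vec 0 i) i
    · rw [dt, vec_dot, Nat.eq_of_beq_eq_true hz1, Nat.cast_zero]
    · rw [dt, vec_dot, Nat.eq_of_beq_eq_true hz2, Nat.cast_zero]
  refine ⟨y, fun x a b => ?_, fun x a b x' a' b' e => ?_, fun x a b x' a' b' => ?_⟩
  · obtain ⟨r, e, hr⟩ := hy x a b
    exact e ▸ hrefl r _ (hn x a b) hr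
  · by_contra hne
    obtain ⟨r, e1, hr⟩ := hy x a b
    obtain ⟨r', e2, hr'⟩ := hy x' a' b'
    rw [e1, e2] at e
    obtain ⟨t, ht, he⟩ := mk_eq_sign e
    obtain ⟨-, pn, pp⟩ := pairs x a b x' a' b' hne
    rcases ht with rfl | rfl
    · have : r = r' := ap_ext fun v => by rw [he, one_smul]
      rcases refl_center_sign hr hr' (hn x a b) (hn x' a' b') (congrArg Subtype.val this) with q | q
      · exact pn q
      · exact pp q
    · obtain ⟨z, hz0, hz1, hz2⟩ := hz x a b x' a' b'
      have := he z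
      rw [refl_ap hr (hn x a b), refl_ap hr' (hn x' a' b'), hz1, hz2, zero_smul, zero_smul, add_zero, neg_one_smul] at this
      exact hz0 (funext fun k => (by decide : ∀ c : K3, c = -c → c = 0) _ (congrFun this k))
  · by_cases hne : x = x'
    · subst hne
      exact ⟨fun _ => (show ∀ x < 9, Fi22Octet.adjB x x = false by decide +kernel) x b, fun _ => Commute.refl _⟩
    obtain ⟨r, e1, hr⟩ := hy x a b
    obtain ⟨r', e2, hr'⟩ := hy x' a' b'
    obtain ⟨pd, pn, pp⟩ := pairs x a b x' a' b' hne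
    set A := vec (rootAt x) with hA
    set B := vec (rootAt x') with hB
    have hsym : dt B A = dt A B := Finset.sum_congr rfl fun i _ => mul_comm _ _
    have dadd : ∀ (u w v : V) (k : K3), dt (u + k • w) v = dt u v + k * dt w v := fun u w v k => by
      simp only [dt, Pi.add_apply, Pi.smul_apply, smul_eq_mul, add_mul, Finset.sum_add_distrib, Finset.mul_sum, mul_assoc]
    rw [e1, e2]
    constructor
    · intro hc
      obtain ⟨t, ht, he⟩ := mk_eq_sign (g := r * r') (h := r' * r) hc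
      obtain ⟨z, hz0, hz1, hz2⟩ := hz x a b x' a' b'
      have et : t = 1 := by
        have := he z
        rw [ap_mul, ap_mul, refl_ap hr' (hn x' a' b'), refl_ap hr (hn x a b) z, hz1, hz2, zero_smul, add_zero,
          zero_smul, add_zero, refl_ap hr (hn x a b), refl_ap hr' (hn x' a' b'), hz1, hz2, zero_smul, add_zero,
          zero_smul, add_zero] at this
        rcases ht with rfl | rfl
        · rfl
        · rw [neg_one_smul] at this
          exact absurd (funext fun k => (by decide : ∀ c : K3, c = -c → c = 0) _ (congrFun this k)) hz0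
      have hcom : r * r' = r' * r := ap_ext fun v => by rw [he, et, one_smul]
      rw [← pd]
      rcases refl_center_sign (refl_conj_eq hr' r) hr' ((iso_map Q7 r.1 B).trans (hn x' a' b')) (hn x' a' b')
        (congrArg Subtype.val (by rw [hcom, mul_inv_cancel_right] : r * r' * r⁻¹ = r')) with q | q
      · rw [refl_ap hr (hn x a b), add_eq_left, smul_eq_zero] at q
        rcases q with q | q
        · rw [← hsym]; exact q
        · exact absurd q fun e => by
            have := hn x a b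
            rw [← hA, e, QuadraticMap.map_zero] at this
            exact zero_ne_one this
      · rw [refl_ap hr (hn x a b)] at q
        have q' : dt B A • A = B := funext fun k => by
          have := congrFun q k
          simp only [Pi.add_apply, Pi.neg_apply] at this
          have h3 : (3 : K3) = 0 := rfl
          linear_combination this - (B k) * h3
        rcases (by decide : ∀ c : K3, c = 0 ∨ c = 1 ∨ c = -1) (dt B A) with c0 | c1 | c2
        · rw [← hsym]; exact c0
        · rw [c1, one_smul] at q'; exact absurd q' pn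
        · rw [c2, neg_one_smul] at q'; exact absurd (neg_eq_iff_eq_neg.mp q') pp
    · intro hadj
      have hd : dt A B = 0 := pd.mpr hadj
      show ((r * r' : ↥R7) : X7) = ((r' * r : ↥R7) : X7)
      refine congrArg _ (ap_ext fun v => ?_)
      rw [ap_mul, ap_mul, refl_ap hr (hn x a b), refl_ap hr' (hn x' a' b'), refl_ap hr (hn x a b) v,
        refl_ap hr' (hn x' a' b'), dadd, dadd, hd, hsym, hd, mul_zero, add_zero, mul_zero, add_zero]
      abel

end CfsgThreeTrans.O7Odd
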